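import Mathlib
import Groth.Agent.H4.KosLow

universe u

namespace Groth.Agent.Lib.Helper5.KosCot

variable {R : Type u} [CommRing R]

/-- from `H_1`-regularity: coefficients of relations lie in the ideal. -/
theorem coeff_mem_of_isH1Regular {c : ℕ} (g : Fin c → R) (hg : CAlgX.IsH1Regular g)
    (I : Ideal R) (hgI : ∀ i, g i ∈ I) (a : Fin c → R) (ha : ∑ i, a i * g i = 0) (i : Fin c) :
    a i ∈ I := by
  have h := hg a ha
  refine Submodule.span_induction (p := fun v _ => ∀ i, v i ∈ I) ?_ ?_ ?_ ?_ h i
  · rintro v ⟨j, l, rfl⟩ t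
    classical
    rw [Pi.sub_apply]
    refine I.sub_mem ?_ ?_
    · by_cases h : t = j
      · subst h; rw [Pi.single_eq_same]; exact hgI l
      · rw [Pi.single_eq_of_ne h]; exact I.zero_mem
    · by_cases h : t = l
      · subst h; rw [Pi.single_eq_same]; exact hgI j
      · rw [Pi.single_eq_of_ne h]; exact I.zero_mem
  · intro t; exact I.zero_mem
  · intro v w _ _ hv hw t; exact I.add_mem (hv t) (hw t)
  · intro r v _ hv t; exact I.mul_mem_left r (hv t)

/-- the same for `List.ofFn`. -/
theorem coeff_mem_of_koszulRegular {r : ℕ} (g : Fin r → R)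
    (hg : LCI.IsKoszulRegularSeq R (List.ofFn g))
    (I : Ideal R) (hgI : ∀ i, g i ∈ I) (a : Fin r → R) (ha : ∑ i, a i * g i = 0) (i : Fin r) :
    a i ∈ I := by
  have h1 := Groth.Agent.H4.KosLow.isH1Regular_of_isKoszulRegularSeq (List.ofFn g) hg
  have hlen : (List.ofFn g).length = r := List.length_ofFn
  let e : Fin (List.ofFn g).length ≃ Fin r := finCongr hlen
  have hget : ∀ j, (List.ofFn g).get j = g (e j) := by
    intro j
    simp [e]
    rfl
  have h2 := coeff_mem_of_isH1Regular (List.ofFn g).get h1 I (fun j => by rw [hget]; exact hgI _)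
    (fun j => a (e j)) (by
      rw [← ha]
      refine Fintype.sum_equiv e _ _ (fun j => ?_)
      rw [hget]) (e.symm i)
  simpa using h2

theorem main {I : Ideal R}
    (r : ℕ) (f : Fin r → I) (hf : LCI.IsKoszulRegularSeq R (List.ofFn (fun i => (f i : R))))
    (hfI : Ideal.span (Set.range (fun i => (f i : R))) = I) :
    ∃ b : Module.Basis (Fin r) (R ⧸ I) I.Cotangent, ∀ i, b i = I.toCotangent (f i) := by
  classical
  have hli : LinearIndependent (R ⧸ I) (fun i => I.toCotangent (f i)) := by
    rw [Fintype.linearIndependent_iff]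
    intro c hc i
    choose a ha using fun i => Ideal.Quotient.mk_surjective (c i)
    have h1 : I.toCotangent (∑ i, a i • f i) = 0 := by
      rw [map_sum, ← hc]
      refine Finset.sum_congr rfl fun i _ => ?_
      rw [map_smul, ← ha i]
      rfl
    rw [Ideal.toCotangent_eq_zero] at h1
    have h2 : ((∑ i, a i • f i : I) : R) = ∑ i, a i * (f i : R) := by
      rw [AddSubmonoidClass.coe_finsetSum]
      rfl
    rw [h2, pow_two] at h1
    have h3 : I * I = I • Submodule.span R (Set.range (fun i => (f i : R))) := by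
      rw [smul_eq_mul]
      conv_lhs => rw [← hfI]
      rw [hfI]
      congr 1
      exact hfI.symm
    rw [h3, Submodule.mem_ideal_smul_span_iff_exists_sum] at h1
    obtain ⟨b, hb, hsum⟩ := h1
    rw [Finsupp.sum_fintype _ _ (fun i => by rw [zero_smul])] at hsum
    have h4 : ∑ i, (a i - b i) * (f i : R) = 0 := by
      simp only [sub_mul, Finset.sum_sub_distrib]
      rw [sub_eq_zero]
      rw [← hsum]
      rfl
    have h5 := coeff_mem_of_koszulRegular (fun i => (f i : R)) hf I (fun i => (f i).2) _ h4 i
    have h6 : a i ∈ I := by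
      have := I.add_mem h5 (hb i)
      simpa using this
    rw [← ha i]
    exact Ideal.Quotient.eq_zero_iff_mem.2 h6
  have hsp : ⊤ ≤ Submodule.span (R ⧸ I) (Set.range (fun i => I.toCotangent (f i))) := by
    rintro x -
    obtain ⟨y, rfl⟩ := Ideal.toCotangent_surjective I x
    have hy : (y : R) ∈ Submodule.span R (Set.range (fun i => (f i : R))) := by
      show (y : R) ∈ Ideal.span _
      rw [hfI]; exact y.2
    obtain ⟨a, ha⟩ := (Submodule.mem_span_range_iff_exists_fun R).1 hy
    have hy' : y = ∑ i, a i • f i := by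
      apply Subtype.ext
      rw [AddSubmonoidClass.coe_finsetSum, ← ha]
      rfl
    rw [hy', map_sum]
    refine Submodule.sum_mem _ fun i _ => ?_
    rw [map_smul]
    have : a i • I.toCotangent (f i) = (Ideal.Quotient.mk I (a i)) • I.toCotangent (f i) := rfl
    rw [this]
    exact Submodule.smul_mem _ _ (Submodule.subset_span ⟨i, rfl⟩)
  exact ⟨Module.Basis.mk hli hsp, fun i => by rw [Module.Basis.mk_apply]⟩

end Groth.Agent.Lib.Helper5.KosCot
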